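import Cfsg.Agent.H844.Ore.BInv_m3
import Cfsg.Agent.LThreeMBTr.Main
import Cfsg.Agent.H898.WkCo1
import Cfsg.Agent.H844.Ore.BReal
import Cfsg.Agent.FastGrp
import Cfsg.Agent.Prune
set_option linter.all false
prune_inst 0x7ffdfffbfff8f9dfffff7ffffffddfffffbfffffe6dffdfbffe9fbfffbff6b6fcfe7fbafefefdafedef6e23c91fa7bd3ff7eeeffe36fdd7ffffd5ff45ffbffcfffffbd0d71febcbe1ffe0ffff3f37f886f3fffffffffffffffffffffffffffffffffffffffff
open scoped Cfsg.Agent.FastGrp

-- part: H630/U33/Seven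
section
/-!
# The centralizers of the elements of order 7 of the Baby Monster, exact orders (helper630, for S5525)

`card_seven` : `|C_B(u)| = 564480` or `75264` for `u` of order 7. The lemmas `eq_of_mk`, `comm_of_mk`, `card_inf` are copied from
`H715/Mon/Exact.lean` (helper715).
-/

set_option autoImplicit false
set_option maxRecDepth 100000

open Subgroup

namespace Cfsg.Agent.H630.U33.Seven

open Cfsg
open Cfsg.Agent.LThreeMB (XX mk exists_mk mk_eq_one mk_eq_mk Zx self)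

universe u

section quot

variable {G : Type u} [Group G]

/-- involutions equal modulo `⟨y⟩` -/
theorem eq_of_mk {y s s' : G} {r : ℕ} (hr : Odd r) (hy : orderOf y = r) (h1 : s * s = 1) (h1' : s' * s' = 1)
    (hs : s * y = y * s) (hs' : s' * y = y * s') (h : mk y hs = mk y hs') : s = s' := by
  obtain ⟨i, hi⟩ := (mk_eq_mk hs hs').1 h
  have h2 : y ^ i * y ^ i = 1 := by
    have h3 : Commute s (y ^ i) := (show Commute s y from hs).zpow_right i
    calc y ^ i * y ^ i = (s * s) * (y ^ i * y ^ i) := by rw [h1, one_mul]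
      _ = s * (s * y ^ i) * y ^ i := by simp only [mul_assoc]
      _ = s * (y ^ i * s) * y ^ i := by rw [h3.eq]
      _ = (s * y ^ i) * (s * y ^ i) := by simp only [mul_assoc]
      _ = 1 := by rw [hi, h1']
  have h3 : (y ^ i) ^ r = 1 := by
    rw [← zpow_natCast, ← zpow_mul, mul_comm, zpow_mul, zpow_natCast, ← hy, pow_orderOf_eq_one, one_zpow]
  have h4 : y ^ i = 1 := by
    obtain ⟨k, hk⟩ := hr
    rw [hk, pow_succ, pow_mul, pow_two, h2, one_pow, one_mul] at h3
    exact h3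
  rw [← hi, h4, mul_one]

/-- elements commuting with an involution modulo `⟨y⟩` -/
theorem comm_of_mk {y s g : G} {r : ℕ} (hr : Odd r) (hy : orderOf y = r) (h1 : s * s = 1)
    (hs : s * y = y * s) (hg : g * y = y * g) (h : mk y hg * mk y hs = mk y hs * mk y hg) : g * s = s * g := by
  have h2 : (g * s * g⁻¹) * (g * s * g⁻¹) = 1 := by
    calc (g * s * g⁻¹) * (g * s * g⁻¹) = g * (s * s) * g⁻¹ := by group
      _ = 1 := by rw [h1]; group
  have h3 : mk y (LThreeMB.conj_comm hg hs) = mk y hs := by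
    have h4 : mk y (LThreeMB.conj_comm hg hs) = mk y hg * mk y hs * (mk y hg)⁻¹ := rfl
    rw [h4, h, mul_inv_cancel_right]
  exact mul_inv_eq_iff_eq_mul.1 (eq_of_mk hr hy h2 h1 _ hs h3)

/-- **`|C(y) ∩ C(s)| = |C_K(s)| r`**, `K = C(y)/⟨y⟩` -/
theorem card_inf [Finite G] {y s : G} {r : ℕ} (hr : Odd r) (hy : orderOf y = r) (hs2 : s * s = 1) (hs : s * y = y * s) :
    Nat.card ↥(centralizer ({y} : Set G) ⊓ centralizer ({s} : Set G)) =
      Nat.card (centralizer ({mk y hs} : Set (XX y))) * r := by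
  let C : Subgroup G := centralizer ({y} : Set G)
  let H : Subgroup (XX y) := centralizer ({mk y hs} : Set (XX y))
  let D : Subgroup C := H.comap (QuotientGroup.mk' (Zx y))
  have h1 : D.map C.subtype = C ⊓ centralizer ({s} : Set G) := by
    ext g
    constructor
    · rintro ⟨g, hg, rfl⟩
      refine ⟨g.2, ?_⟩
      have hg' := mem_centralizer_singleton_iff.1 (mem_comap.1 hg)
      exact mem_centralizer_singleton_iff.2
        (comm_of_mk hr hy hs2 hs (mem_centralizer_singleton_iff.1 g.2) hg')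
    · rintro ⟨hg, hgs⟩
      refine ⟨⟨g, hg⟩, ?_, rfl⟩
      show (⟨g, hg⟩ : C) ∈ H.comap (QuotientGroup.mk' (Zx y))
      rw [mem_comap, mem_centralizer_singleton_iff]
      apply congrArg (QuotientGroup.mk (s := Zx y))
      exact Subtype.ext (mem_centralizer_singleton_iff.1 hgs)
  have h0 : Nat.card ↥(centralizer ({y} : Set G) ⊓ centralizer ({s} : Set G)) = Nat.card D := by
    rw [← h1, card_map_of_injective C.subtype_injective]
  rw [h0]
  have h2 : D.index = H.index := index_comap_of_surjective _ (QuotientGroup.mk'_surjective _)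
  have h3 := D.card_mul_index
  have h4 := H.card_mul_index
  have h5 : Nat.card C = Nat.card (XX y) * r := by
    have h6 := (Zx y).card_eq_card_quotient_mul_card_subgroup
    have h7 : Nat.card (Zx y) = r := by
      show Nat.card (zpowers (self y)) = r
      rw [Nat.card_zpowers, ← hy]
      exact Subgroup.orderOf_mk y _
    rw [h7] at h6
    exact h6
  rw [h5, ← h4, h2] at h3
  have h6 : H.index ≠ 0 := index_ne_zero_of_finite
  refine Nat.eq_of_mul_eq_mul_right (Nat.pos_of_ne_zero h6) ?_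
  calc Nat.card D * H.index = Nat.card H * H.index * r := h3
    _ = Nat.card H * r * H.index := by ring

end quot

section He

open Cfsg.Agent.KFacts.He Cfsg.Agent.KFacts.He.Lv Cfsg.Agent.KFacts.He.TwoACent
open Cfsg.Spor Cfsg.Spor.He

/-- `|C(a)| = 161280` in `He` -/
theorem card_cent_a : Nat.card (centralizer ({gn .a} : Set He)) = 161280 := by
  have h1 : (L.subgroupOf (centralizer ({gn .a} : Set He))).index ∣ 2 := by
    refine H997.OutCard.index_dvd_two_of _ fun c d => ?_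
    exact two (mem_centralizer_singleton_iff.1 c.2) (mem_centralizer_singleton_iff.1 d.2)
  have h2 := (L.subgroupOf (centralizer ({gn .a} : Set He))).card_mul_index
  rw [Nat.card_congr (Subgroup.subgroupOfEquivOfLe CTwoTab.He.L_le_cent).toEquiv, CTwoTab.He.card_L] at h2
  have h3 : (L.subgroupOf (centralizer ({gn .a} : Set He))).index ≠ 1 := by
    intro h3
    rw [index_eq_one, eq_top_iff] at h3
    have h4 : s ∈ L := mem_subgroupOf.1 (h3 (mem_top (⟨s, mem_centralizer_singleton_iff.2 s_comm_a⟩ :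
      centralizer ({gn .a} : Set He))))
    have h5 := s_conj_v
    rw [L_comm_v h4, mul_inv_cancel_right, mul_inv_cancel] at h5
    exact a_ne_one h5.symm
  rcases (Nat.dvd_prime Nat.prime_two).1 h1 with h4 | h4
  · exact absurd h4 h3
  · rw [h4] at h2
    omega

end He

open Cfsg.Agent.BpTab Cfsg.Agent.CpAutBFive Cfsg.Agent.MFive
open Cfsg.Agent.MonsterX

/-- the centralizers of the involutions of `He` -/
theorem he_inv {H : Type*} [Group H] (h : Spor.IsoHe H) {τ : H} (hτ : orderOf τ = 2) :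
    Nat.card ↥(centralizer ({τ} : Set H)) = 161280 ∨ Nat.card ↥(centralizer ({τ} : Set H)) = 21504 := by
  obtain ⟨e⟩ := h
  rw [LThreeB.card_centralizer_congr e τ]
  have h2 : orderOf (e τ) = 2 := by rw [MulEquiv.orderOf_eq, hτ]
  have h3 : e τ * e τ = 1 := by rw [← pow_two, ← h2, pow_orderOf_eq_one]
  have h4 : e τ ≠ 1 := by
    intro h5
    rw [h5, orderOf_one] at h2
    norm_num at h2
  rcases CTwoTab.He.classes h3 h4 with hc | hc
  · right
    rw [H829.Pw.card_cent_of_isConj hc]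
    exact KFacts.He.Cent.card_cent
  · left
    rw [H829.Pw.card_cent_of_isConj hc]
    exact card_cent_a

/-- **The centralizers of the elements of order 7 of the Baby Monster.** -/
theorem card_seven {L : Type u} [Group L] (h : Spor.IsoB L) {u : L} (hu : orderOf u = 7) :
    Nat.card (centralizer ({u} : Set L)) = 564480 ∨ Nat.card (centralizer ({u} : Set L)) = 75264 := by
  have hfin : Finite H630.Baby.Mon := MThirteen.Row.finite
  have hL : Finite L := Nat.finite_of_card_ne_zero (by rw [NotCT.Orders.b h]; norm_num)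
  obtain ⟨t, x, ht, hx, hxt, hc⟩ := H630.Baby.exists_lift_card h (by norm_num) (by norm_num) hu
  obtain ⟨g, hg⟩ := H829.Pw.exists_he (v := t) ht hx hxt
  have hx' : orderOf (g⁻¹ * x * g) = 7 := by
    have h6 := MulEquiv.orderOf_eq (MulAut.conj g⁻¹) x
    rw [MulAut.conj_apply, inv_inv] at h6
    rw [h6, hx]
  have ht' : orderOf (g⁻¹ * t * g) = 2 := by
    have h6 := MulEquiv.orderOf_eq (MulAut.conj g⁻¹) t
    rw [MulAut.conj_apply, inv_inv] at h6
    rw [h6]
    exact MThirteen.Row.ta_order ht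
  have htt : g⁻¹ * t * g * (g⁻¹ * t * g) = 1 := by rw [← pow_two, ← ht', pow_orderOf_eq_one]
  have hxt' : g⁻¹ * t * g * (g⁻¹ * x * g) = g⁻¹ * x * g * (g⁻¹ * t * g) := by
    calc g⁻¹ * t * g * (g⁻¹ * x * g) = g⁻¹ * (t * x) * g := by group
      _ = g⁻¹ * (x * t) * g := by rw [hxt]
      _ = _ := by group
  have h1 : Nat.card ↥(LThreeB.XT x t) = Nat.card ↥(LThreeB.XT (g⁻¹ * x * g) (g⁻¹ * t * g)) := by
    have h2 := Nat.card_congr (LThreeB.conjXT g⁻¹ x t).toEquiv
    rw [inv_inv] at h2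
    exact h2
  have h2 := card_inf (r := 7) (by decide) hx' htt hxt'
  have hτ : orderOf (mk (g⁻¹ * x * g) hxt') = 2 := by
    refine orderOf_eq_prime ?_ ?_
    · rw [pow_two]
      show mk (g⁻¹ * x * g) hxt' * mk (g⁻¹ * x * g) hxt' = 1
      refine (congrArg (QuotientGroup.mk (s := Zx (g⁻¹ * x * g))) (Subtype.ext ?_)).trans (QuotientGroup.mk_one _)
      exact htt
    · intro h0
      have h3 : g⁻¹ * t * g = 1 := by
        refine eq_of_mk (r := 7) (s := g⁻¹ * t * g) (s' := 1) (by decide) hx' htt (one_mul 1) hxt' (by rw [one_mul, mul_one]) ?_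
        rw [h0]
        rfl
      rw [h3, orderOf_one] at ht'
      norm_num at ht'
  change Nat.card ↥(LThreeB.XT (g⁻¹ * x * g) (g⁻¹ * t * g)) = _ at h2
  rw [← h1, hc] at h2
  rcases he_inv hg hτ with h3 | h3
  · left
    rw [h3] at h2
    omega
  · right
    rw [h3] at h2
    omega

end Cfsg.Agent.H630.U33.Seven
end

-- part: H573/U33/Oct
section
/-!
# Octad involutions of `Co₁`, and characters of `t` and `t z` (helper573, lemma M1 of S5525)

* `chr_ne` : `k` commuting with a fixed point free `x` of order three, `chi A ≠ 0`: `k` and `k z` have distinct traces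
  (the end of the proof of `LThreeMBTr.exists_second`);
* `octad_of_dvd` : an involution `t` of `Co₁` with `3 ^ 5 ∣ |C(t)|` is conjugate to an octad sign change;
* `chi_ne_zero` : `chi A ≠ 0` for `A` over such an involution.
-/

set_option autoImplicit false

namespace Cfsg.Agent.H573.U33.Oct

open Cfsg Cfsg.Spor Cfsg.Agent.LeechMat.Core Cfsg.Agent.MonsterX.KSide Cfsg.Agent.MonsterX.KLift
open Cfsg.Agent.MonsterX.FrameKS
open Cfsg.Agent.SporadicA.Co0Mono (signCo0 signCo0_add signCo0_zero)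
open Cfsg.Agent.SporadicA.Co1Simple (allOne allOne_smul allOne_mem_center)
open Cfsg.Agent.CoOneType.SignFacts (wt)
open Cfsg.Agent.CoOneType.ClosingFacts (mk mk_eq mk_mul mk_inv isConj_octad exists_mk)
open Cfsg.Agent.LThreeMBTr (Tens chr chr_conj chr_eq chi chi_one chi_neg chi_sign Fpf Acts_z exists_data tr_ne_zero)
open Subgroup (centralizer mem_centralizer_singleton_iff card_dvd_of_le card_map_dvd)

section trace

variable {G V P W : Type*} [Group G] [AddCommGroup V] [Module ℚ V]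
  [DistribMulAction G V] [SMulCommClass G ℚ V] [Group P] [AddCommGroup W] [Module ℚ W]
  {M : KS G V P W} {θ : leechLattice → P}

theorem chr_ne (L : Lift M θ) (H : Tens M) {x k : G} (hxK : x ∈ M.K) (h3 : x * x * x = 1) (hx : Fpf M x)
    (hk : k ∈ M.K) {A : Co0} (hkI : Ind M k A) (hA : chi A ≠ 0) (hxk : x * k = k * x) :
    chr V k ≠ chr V (k * M.z) := by
  intro h5
  obtain ⟨α, T, hD⟩ := exists_data hk hkI
  have hT0 := tr_ne_zero L H hxK h3 hx hD hxk
  classical
  obtain ⟨hfin, J, _, _, b, hJ, hb⟩ := H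
  have hfinP : Finite P := Nat.finite_of_card_ne_zero (by rw [L.card]; norm_num)
  have : Fintype P := Fintype.ofFinite P
  rw [chr_eq M hb hD, chr_eq M hb (Acts_z hD), map_neg] at h5
  have h6 : chi A * LinearMap.trace ℚ W T = 0 := by linarith
  rcases mul_eq_zero.1 h6 with h7 | h7
  · exact hA h7
  · exact hT0 h7

end trace

theorem octad_of_dvd {t : Co1} (ht : orderOf t = 2) (h : 3 ^ 5 ∣ Nat.card ↥(centralizer ({t} : Set Co1))) :
    ∃ c : golayCode, wt c = 8 ∧ IsConj (mk (signCo0 c)) t := by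
  rcases H834.TThree.inv3 ht with h1 | ⟨d, hd, h1⟩ | h1
  · rw [Cfsg.Agent.StdG24.ExCent.z_eq] at h1
    exact ⟨_, Cfsg.Agent.StdG24.ExCent.wt_oM, h1⟩
  · exfalso
    rw [← H55.CoOneBd.card_cent_conj h1] at h
    have h2 := (h.trans (card_dvd_of_le (CoOneType.CoOneE.centralizer_dodecad_le d hd))).trans (card_map_dvd _ _)
    rw [Cfsg.Agent.S0399.card_N] at h2
    norm_num at h2
  · exfalso
    rw [← H55.CoOneBd.card_cent_conj h1] at h
    have h2 := h.trans H898.WkCo1.dvd_w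
    norm_num at h2

theorem chi_conj (A B : Co0) : chi (B * A * B⁻¹) = chi A := by
  have h1 : B⁻¹ * (B * A) = A := by group
  unfold chi
  rw [map_mul, LinearMap.trace_mul_comm, ← map_mul, h1]

theorem chi_ne_zero {t : Co1} (ht : orderOf t = 2) (h : 3 ^ 5 ∣ Nat.card ↥(centralizer ({t} : Set Co1))) {A : Co0}
    (hA : mk A = t) : chi A ≠ 0 := by
  obtain ⟨c, hc, h1⟩ := octad_of_dvd ht h
  obtain ⟨g, hg⟩ := isConj_iff.1 h1
  obtain ⟨B, rfl⟩ := exists_mk g
  have h2 : mk (B * signCo0 c * B⁻¹) = mk A := by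
    rw [hA, ← hg, mk_mul, mk_mul, mk_inv]
  have h3 : chi (B * signCo0 c * B⁻¹) = 8 := by
    rw [chi_conj, chi_sign, hc]
    norm_num
  rcases (mk_eq _ _).1 h2 with h4 | h4
  · rw [← h4, h3]
    norm_num
  · rw [h4, chi_neg] at h3
    intro h5
    rw [h5] at h3
    norm_num at h3

end Cfsg.Agent.H573.U33.Oct
end

-- part: H573/U33/Conj
section
/-!
# Elements of order three of the Baby Monster with centralizer of order prime to seven (helper573, lemma M1 of S5525)

* `conj_three` : `s`, `s'` of order 3 in `B`, `7` divides neither `|C(s)|` nor `|C(s')|`: they are conjugate.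
-/

set_option autoImplicit false
set_option maxRecDepth 100000
set_option linter.unusedSectionVars false

namespace Cfsg.Agent.H573.U33.Conj

open Cfsg Cfsg.Agent Cfsg.Agent.MonsterX Cfsg.Agent.MonsterX.InstData Cfsg.Agent.MonsterX.MainPack Cfsg.Agent.MonsterU
open Cfsg.Agent.MonsterP Cfsg.Agent.MonsterN Cfsg.Agent.LThree Cfsg.Agent.LThreeMB
open Cfsg.Agent.MonsterX.MainBasic Cfsg.Agent.MonsterX.MainSimple Cfsg.Agent.MonsterX.Model
open Cfsg.Agent.LThreeB (XT mem_XT centXT centXT' conjXT)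
open Subgroup (centralizer mem_centralizer_singleton_iff center card_dvd_of_le zpowers)
open Cfsg.Spor (Co1)
open Cfsg.Agent.H979.BAdj Cfsg.Agent.H979.CovLift Cfsg.Agent.H979.OddB
open Cfsg.Agent.H630.NH Cfsg.Agent.H241.NH Cfsg.Agent.H630.Baby
open Cfsg.Agent.H844.Ore Cfsg.Agent.H844.Ore.BThree

universe u v

theorem suz_conj {X : Type u} [Group X] (h : Spor.IsoSuz X) {v v' : X} (hv : v * v = 1) (hv1 : v ≠ 1)
    (hv' : v' * v' = 1) (hv1' : v' ≠ 1) (hc : Nat.card ↥(centralizer ({v} : Set X)) = 3317760)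
    (hc' : Nat.card ↥(centralizer ({v'} : Set X)) = 3317760) : IsConj v v' := by
  obtain ⟨e⟩ := h
  rw [LThreeB.card_centralizer_congr e] at hc hc'
  have h1 : IsConj (e v) (e v') := by
    rcases CTwoTab.Suz.classes (t := e v) (by rw [← map_mul, hv, map_one])
      (fun h1 => hv1 (e.injective (by rw [h1, map_one]))) with h2 | h2
    · rcases CTwoTab.Suz.classes (t := e v') (by rw [← map_mul, hv', map_one])
        (fun h1 => hv1' (e.injective (by rw [h1, map_one]))) with h3 | h3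
      · exact h2.symm.trans h3
      · exfalso
        rw [← MThirteen.card_cent_conj h3, KFacts.SuzTwoB.card_CE] at hc'
        norm_num at hc'
    · exfalso
      rw [← MThirteen.card_cent_conj h2, KFacts.SuzTwoB.card_CE] at hc
      norm_num at hc
  obtain ⟨c, hc⟩ := isConj_iff.1 h1
  refine isConj_iff.2 ⟨e.symm c, e.injective ?_⟩
  rw [map_mul, map_mul, map_inv, e.apply_symm_apply, hc]

section abs

open Cfsg.Agent.BpSpor.M5

variable {D : Type u} [Group D] [Finite D] {z x : D} {N : Subgroup D} {A : Type v} [Group A] [Finite A]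
    {f : ↥(centralizer ({z} : Set D)) →* A}

theorem rad_ne (hN : Rad 3 z x N f) {τ : ↥(centralizer ({z} : Set D))} (h2 : (τ : D) * τ = 1) (h1 : (τ : D) ≠ 1)
    (hz : (τ : D) ≠ z) : f τ * f τ = 1 ∧ f τ ≠ 1 := by
  have hp : Fact (Nat.Prime 3) := ⟨Nat.prime_three⟩
  constructor
  · rw [← map_mul, show τ * τ = 1 from Subtype.ext h2, map_one]
  · intro h0
    obtain ⟨i, hi | hi⟩ := hN.ker _ h0
    · have h3 := hN.sq_one (by norm_num) (i := i) (by rw [← hi, h2])
      rw [h3] at hi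
      exact h1 hi
    · have h4 : x ^ i * x ^ i = 1 := by
        have h5 := hN.xzc i z
        calc x ^ i * x ^ i = x ^ i * x ^ i * (z * z) := by rw [hN.zz, mul_one]
          _ = x ^ i * (x ^ i * z) * z := by group
          _ = x ^ i * (z * x ^ i) * z := by rw [h5]
          _ = (x ^ i * z) * (x ^ i * z) := by group
          _ = 1 := by rw [← hi, h2]
      rw [hN.sq_one (by norm_num) h4, one_mul] at hi
      exact hz hi

theorem rad_card [IsSimpleGroup A] (hns : ¬ Group.IsSolvable A) (hN : Rad 3 z x N f)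
    (hA : ∀ v : A, v * v = 1 → v ≠ 1 → Nat.card ↥(centralizer ({v} : Set A)) = 3317760 ∨
      Nat.card ↥(centralizer ({v} : Set A)) = 161280) {τ : ↥(centralizer ({z} : Set D))} (h2 : (τ : D) * τ = 1)
    (h1 : (τ : D) ≠ 1) (hz : (τ : D) ≠ z) (h7 : ¬ 7 ∣ Nat.card ↥(centralizer ({(τ : D)} : Set D))) :
    Nat.card ↥(centralizer ({f τ} : Set A)) = 3317760 := by
  obtain ⟨hvv, hv1⟩ := rad_ne hN h2 h1 hz
  rcases hA _ hvv hv1 with h5 | h5
  · exact h5
  · exfalso
    apply h7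
    obtain ⟨m, hm1, -, hm3⟩ := BAbs.card_cent hns hN h2 (mem_centralizer_singleton_iff.1 τ.2)
    have h8 : Nat.card ↥(centralizer ({f ⟨τ, mem_centralizer_singleton_iff.2 (mem_centralizer_singleton_iff.1 τ.2)⟩} :
      Set A)) = 161280 := h5
    rw [hm1]
    refine Dvd.dvd.mul_left (Dvd.dvd.trans ?_ hm3) _
    rw [h8]
    norm_num

theorem rad_conj (hN : Rad 3 z x N f) {τ τ' : ↥(centralizer ({z} : Set D))} (h2 : (τ : D) * τ = 1)
    (h2' : (τ' : D) * τ' = 1) (hc : IsConj (f τ) (f τ')) :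
    ∃ d : D, d * τ * d⁻¹ = τ' ∨ d * τ * d⁻¹ = τ' * z := by
  have hp : Fact (Nat.Prime 3) := ⟨Nat.prime_three⟩
  obtain ⟨w, hw⟩ := isConj_iff.1 hc
  obtain ⟨c, rfl⟩ := hN.surj w
  have h3 : f (c * τ * c⁻¹ * τ'⁻¹) = 1 := by
    rw [map_mul, map_mul, map_mul, map_inv, hw, map_inv, mul_inv_cancel]
  have hcc : ((c : D) * τ * (c : D)⁻¹) * ((c : D) * τ * (c : D)⁻¹) = 1 := by
    calc (c : D) * τ * (c : D)⁻¹ * ((c : D) * τ * (c : D)⁻¹) = (c : D) * ((τ : D) * τ) * (c : D)⁻¹ := by group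
      _ = 1 := by rw [h2]; group
  have fin : ∀ (q : D) (i : ℤ), q * q = 1 → (c : D) * τ * (c : D)⁻¹ = x ^ i * q → (c : D) * τ * (c : D)⁻¹ = q := by
    intro q i hq hi
    have h5 : x ^ i * x ^ i = 1 := by
      calc x ^ i * x ^ i = x ^ i * x ^ i * (q * q) := by rw [hq, mul_one]
        _ = x ^ i * (x ^ i * q) * q := by group
        _ = x ^ i * (q * x ^ i) * q := by rw [hN.xzc i q]
        _ = (x ^ i * q) * (x ^ i * q) := by group
        _ = 1 := by rw [← hi, hcc]
    rw [hi, hN.sq_one (by norm_num) h5, one_mul]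
  have hzτ : z * (τ' : D) = τ' * z := (mem_centralizer_singleton_iff.1 τ'.2).symm
  refine ⟨c, ?_⟩
  obtain ⟨i, hi | hi⟩ := hN.ker _ h3
  · left
    have h4 : (c : D) * τ * (c : D)⁻¹ * (τ' : D)⁻¹ = x ^ i := hi
    exact fin _ i h2' (by rw [← h4]; group)
  · right
    have h4 : (c : D) * τ * (c : D)⁻¹ * (τ' : D)⁻¹ = x ^ i * z := hi
    refine fin _ i ?_ ?_
    · calc (τ' : D) * z * (τ' * z) = (τ' : D) * (z * τ') * z := by group
        _ = (τ' : D) * (τ' * z) * z := by rw [hzτ]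
        _ = ((τ' : D) * τ') * (z * z) := by group
        _ = 1 := by rw [h2', hN.zz, one_mul]
    · rw [← hzτ, ← mul_assoc, ← h4]; group

end abs

/-- `s` in `C(y) ∩ C(z)` -/
def lf {y s : centralizer ({KDone.K.z} : Set Mon)} (hsy : (s : Mon) * y = y * s) :
    ↥(centralizer ({zD y} : Set ↥(centralizer ({(y : Mon)} : Set Mon)))) :=
  ⟨⟨s, mem_centralizer_singleton_iff.2 hsy⟩,
    mem_centralizer_singleton_iff.2 (Subtype.ext (mem_centralizer_singleton_iff.1 s.2))⟩

section zero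

open Cfsg.Agent.BpSpor.M5

variable {y : centralizer ({KDone.K.z} : Set Mon)} (hy : orderOf y = 3) (hfr : fr (KChart.pi LThreeB.Row.cent y) = 1)

include hy hfr

theorem suz_zero : Spor.IsoSuz (XX (KChart.pi LThreeB.Row.cent y)) := CoOneFin.coOne.suz _ (orderOf_pi chart hy) hfr

theorem ns_zero : IsSimpleGroup (XX (KChart.pi LThreeB.Row.cent y)) ∧
    ¬ Group.IsSolvable (XX (KChart.pi LThreeB.Row.cent y)) ∧ Finite (XX (KChart.pi LThreeB.Row.cent y)) := by
  have hS := suz_zero hy hfr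
  have hcS : Nat.card (XX (KChart.pi LThreeB.Row.cent y)) = 448345497600 := by
    obtain ⟨e⟩ := hS
    rw [Nat.card_congr e.toEquiv]
    exact SporadicRecognition.SuzOrder.card_Suz
  have hs : IsSimpleGroup (XX (KChart.pi LThreeB.Row.cent y)) := by
    obtain ⟨e⟩ := hS
    exact (MulEquiv.isSimpleGroup_congr e).2 Cfsg.Agent.S1694.result.1
  exact ⟨hs, H199.NSmMon.not_solvable hs hcS (by norm_num) (by norm_num),
    Nat.finite_of_card_ne_zero (by rw [hcS]; norm_num)⟩

theorem rad_zero : ∃ N : Subgroup ↥(centralizer ({(y : Mon)} : Set Mon)),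
    Rad 3 (zD y) (self (y : Mon)) N (toXX (KChart.pi LThreeB.Row.cent) y) := by
  have hfin : Finite Mon := MThirteen.Row.finite
  have h := chart
  have hp : Fact (Nat.Prime 3) := ⟨Nat.prime_three⟩
  have htr := MThirteen.Row.trNe
  have hS := suz_zero hy hfr
  have hcS : Nat.card (XX (KChart.pi LThreeB.Row.cent y)) = 448345497600 := by
    obtain ⟨e⟩ := hS
    rw [Nat.card_congr e.toEquiv]
    exact SporadicRecognition.SuzOrder.card_Suz
  exact BpSpor.M5.exists_rad h (by norm_num) hy hfr (fun d hd hc => isolated h htr hy hfr d hd hc)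
    (ns_zero hy hfr).1 (by rw [hcS]; decide)

/-- `s` and `s z` are not conjugate -/
theorem not_conj {s : centralizer ({KDone.K.z} : Set Mon)} (hs2 : (s : Mon) * s = 1) (hsy : (s : Mon) * y = y * s)
    (hv1 : toXX (KChart.pi LThreeB.Row.cent) y (lf hsy) ≠ 1)
    (hc : Nat.card ↥(centralizer ({toXX (KChart.pi LThreeB.Row.cent) y (lf hsy)} :
      Set (XX (KChart.pi LThreeB.Row.cent y)))) = 3317760) (g : Mon) : g * (s : Mon) * g⁻¹ ≠ s * KDone.K.z := by
  have hfc : Finite Co1 := H55.CoOneBd.finite_co1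
  intro hg
  have hpy : orderOf (KChart.pi LThreeB.Row.cent y) = 3 := orderOf_pi chart hy
  have hsK := LThreeB.Row.cent (s : Mon) (mem_centralizer_singleton_iff.1 s.2)
  have hyK := LThreeB.Row.cent (y : Mon) (mem_centralizer_singleton_iff.1 y.2)
  obtain ⟨A, hA⟩ := MonsterU.TwoQ.ind_exists hsK
  have h1 : KChart.pi LThreeB.Row.cent s = QuotientGroup.mk A := KChart.pi_eq LThreeB.Row.cent hA
  have hsy' : s * y = y * s := Subtype.ext hsy
  have hps : KChart.pi LThreeB.Row.cent s * KChart.pi LThreeB.Row.cent y =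
      KChart.pi LThreeB.Row.cent y * KChart.pi LThreeB.Row.cent s := by rw [← map_mul, hsy', map_mul]
  have hss : KChart.pi LThreeB.Row.cent s * KChart.pi LThreeB.Row.cent s = 1 := by
    rw [← map_mul, show s * s = 1 from Subtype.ext hs2, map_one]
  have hmk : toXX (KChart.pi LThreeB.Row.cent) y (lf hsy) = mk (KChart.pi LThreeB.Row.cent y) hps := rfl
  rw [hmk] at hc hv1
  have hos : orderOf (KChart.pi LThreeB.Row.cent s) = 2 := by
    refine orderOf_eq_prime (by rw [pow_two, hss]) ?_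
    intro h0
    apply hv1
    rw [mk_eq_one]
    exact ⟨0, by rw [zpow_zero, h0]⟩
  have h2 := H630.U33.Seven.card_inf (r := 3) (by decide) hpy hss hps
  have h3 : 3 ^ 5 ∣ Nat.card ↥(centralizer ({KChart.pi LThreeB.Row.cent s} : Set Co1)) := by
    refine Dvd.dvd.trans ?_ (card_dvd_of_le (inf_le_right :
      centralizer ({KChart.pi LThreeB.Row.cent y} : Set Co1) ⊓ centralizer ({KChart.pi LThreeB.Row.cent s} : Set Co1) ≤ _))
    rw [h2, hc]
    norm_num
  have h4 := Oct.chi_ne_zero hos h3 h1.symm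
  have hy3 : (y : Mon) * y * y = 1 := by
    have h5 : y ^ 3 = 1 := by rw [← hy, pow_orderOf_eq_one]
    have h6 : (y : Mon) ^ 3 = 1 := by exact_mod_cast congrArg Subtype.val h5
    rw [← h6, pow_succ, pow_two]
  refine Oct.chr_ne KDone.lft LThreeMBTr.TensK.tens hyK hy3
    (KPair.fpf KDone.lft LThreeB.Row.cent (by rw [← hy, pow_orderOf_eq_one]) hfr) hsK hA h4 hsy.symm ?_
  rw [← hg, LThreeMBTr.chr_conj]

/-- **Fixed rank 0.** -/
theorem zero_conj {s s' : centralizer ({KDone.K.z} : Set Mon)} (ht : LThreeB.Row.TA (s : Mon))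
    (ht' : LThreeB.Row.TA (s' : Mon)) (hsy : (s : Mon) * y = y * s) (hsy' : (s' : Mon) * y = y * s')
    (h7 : ¬ 7 ∣ Nat.card ↥(XT (y : Mon) s)) (h7' : ¬ 7 ∣ Nat.card ↥(XT (y : Mon) s')) :
    ∃ g : Mon, g * y * g⁻¹ = y ∧ g * s * g⁻¹ = s' := by
  have hfin : Finite Mon := MThirteen.Row.finite
  have key : ∀ t : Mon, LThreeB.Row.TA t → t * t = 1 ∧ t ≠ 1 ∧ t ≠ KDone.K.z := by
    intro t ht
    have hto := MThirteen.Row.ta_order ht
    refine ⟨by rw [← pow_two, ← hto, pow_orderOf_eq_one], ?_, ?_⟩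
    · rintro rfl
      rw [orderOf_one] at hto
      omega
    · intro h1
      exact MThirteen.Row.ta_ne ht 1 (by rw [h1]; group)
  obtain ⟨a1, a2, a3⟩ := key _ ht
  obtain ⟨b1, b2, b3⟩ := key _ ht'
  obtain ⟨N, hN⟩ := rad_zero hy hfr
  obtain ⟨hs, hns, hfS⟩ := ns_zero hy hfr
  have hXT : ∀ {s : centralizer ({KDone.K.z} : Set Mon)} (hsy : (s : Mon) * y = y * s),
      Nat.card ↥(XT (y : Mon) s) = Nat.card ↥(centralizer
        ({((lf hsy : ↥(centralizer ({zD y} : Set ↥(centralizer ({(y : Mon)} : Set Mon))))) :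
          ↥(centralizer ({(y : Mon)} : Set Mon)))} : Set ↥(centralizer ({(y : Mon)} : Set Mon)))) := fun {s} hsy =>
    (Nat.card_congr (centXT' (⟨s, mem_centralizer_singleton_iff.2 hsy⟩ :
        ↥(centralizer ({(y : Mon)} : Set Mon)))).toEquiv).symm
  rw [hXT hsy] at h7
  rw [hXT hsy'] at h7'
  have a1' : ((lf hsy : ↥(centralizer ({zD y} : Set ↥(centralizer ({(y : Mon)} : Set Mon))))) :
      ↥(centralizer ({(y : Mon)} : Set Mon))) * (lf hsy : ↥(centralizer ({zD y} : Set _))) = 1 := Subtype.ext a1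
  have b1' : ((lf hsy' : ↥(centralizer ({zD y} : Set ↥(centralizer ({(y : Mon)} : Set Mon))))) :
      ↥(centralizer ({(y : Mon)} : Set Mon))) * (lf hsy' : ↥(centralizer ({zD y} : Set _))) = 1 := Subtype.ext b1
  have a2' : ((lf hsy : ↥(centralizer ({zD y} : Set ↥(centralizer ({(y : Mon)} : Set Mon))))) :
      ↥(centralizer ({(y : Mon)} : Set Mon))) ≠ 1 := fun h => a2 (congrArg Subtype.val h)
  have b2' : ((lf hsy' : ↥(centralizer ({zD y} : Set ↥(centralizer ({(y : Mon)} : Set Mon))))) :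
      ↥(centralizer ({(y : Mon)} : Set Mon))) ≠ 1 := fun h => b2 (congrArg Subtype.val h)
  have a3' : ((lf hsy : ↥(centralizer ({zD y} : Set ↥(centralizer ({(y : Mon)} : Set Mon))))) :
      ↥(centralizer ({(y : Mon)} : Set Mon))) ≠ zD y := fun h => a3 (congrArg Subtype.val h)
  have b3' : ((lf hsy' : ↥(centralizer ({zD y} : Set ↥(centralizer ({(y : Mon)} : Set Mon))))) :
      ↥(centralizer ({(y : Mon)} : Set Mon))) ≠ zD y := fun h => b3 (congrArg Subtype.val h)
  obtain ⟨c1, c2⟩ := rad_ne hN a1' a2' a3'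
  obtain ⟨d1, d2⟩ := rad_ne hN b1' b2' b3'
  have hS := suz_zero hy hfr
  have c3 := rad_card hns hN (fun v hv hv1 => suz_card hS v hv hv1) a1' a2' a3' h7
  have d3 := rad_card hns hN (fun v hv hv1 => suz_card hS v hv hv1) b1' b2' b3' h7'
  obtain ⟨d, hd | hd⟩ := rad_conj hN a1' b1' (suz_conj hS c1 c2 d1 d2 c3 d3)
  · refine ⟨d, ?_, congrArg Subtype.val hd⟩
    rw [mem_centralizer_singleton_iff.1 d.2, mul_inv_cancel_right]
  · exfalso
    have h4 : (d : Mon) * s * (d : Mon)⁻¹ = s' * KDone.K.z := congrArg Subtype.val hd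
    have e1 : IsConj (s' : Mon) (s : Mon) := (show IsConj _ _ from ht').symm.trans ht
    have e2 : IsConj (s' : Mon) (s' * KDone.K.z) := e1.trans (isConj_iff.2 ⟨d, h4⟩)
    obtain ⟨g, hg⟩ := isConj_iff.1 e2
    exact not_conj hy hfr b1 hsy' d2 d3 g hg

end zero

/-! ### The Monster -/

theorem seven_dvd_pair {a b : Spor.Fi24} (P : Cfsg.Agent.R08.TetFi24A.At a b) {t : Spor.Fi24'}
    (ht : (t : Spor.Fi24) = a * b) : 7 ∣ Nat.card ↥(centralizer ({t} : Set Spor.Fi24')) := by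
  refine Dvd.dvd.trans ?_ (card_dvd_of_le (CTwoTab.FiTF.N_le ht))
  rw [Nat.card_congr (CTwoTab.FiTF.eN a b).toEquiv, OddHalf.D4.Spor.FiTF.card_Cab P]
  norm_num

theorem seven_of_fi {x t : Mon} (hx : orderOf x = 3) (htt : t * t = 1) (h : FiType t x) :
    7 ∣ Nat.card ↥(XT x t) := by
  have hfin : Finite Mon := MThirteen.Row.finite
  obtain ⟨htx, f, a, b, P, hf⟩ := h
  have h2 : Nat.card ↥(XT x t) = Nat.card ↥(centralizer ({mk x htx} : Set (XX x))) * 3 :=
    H630.U33.Seven.card_inf (r := 3) (by decide) hx htt htx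
  rw [h2, LThreeB.card_centralizer_congr f]
  exact (seven_dvd_pair P hf).mul_right 3

theorem seven_of_th {x t : Mon} (hx : orderOf x = 3) (ht : orderOf t = 2) (htx : t * x = x * t)
    (h : Spor.IsoTh (XX x)) : 7 ∣ Nat.card ↥(XT x t) := by
  have hfin : Finite Mon := MThirteen.Row.finite
  have htt : t * t = 1 := by rw [← pow_two, ← ht, pow_orderOf_eq_one]
  obtain ⟨e⟩ := h
  have h2 : Nat.card ↥(XT x t) = Nat.card ↥(centralizer ({mk x htx} : Set (XX x))) * 3 :=
    H630.U33.Seven.card_inf (r := 3) (by decide) hx htt htx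
  have hτ : orderOf (mk x htx) = 2 := by
    refine orderOf_eq_prime ?_ ?_
    · rw [pow_two]
      show mk x htx * mk x htx = 1
      refine (congrArg (QuotientGroup.mk (s := Zx x)) (Subtype.ext ?_)).trans (QuotientGroup.mk_one _)
      exact htt
    · intro h0
      have h3 : t = 1 := by
        refine H630.U33.Seven.eq_of_mk (r := 3) (s := t) (s' := 1) (by decide) hx htt (one_mul 1) htx
          (by rw [one_mul, mul_one]) ?_
        rw [h0]
        rfl
      rw [h3, orderOf_one] at ht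
      norm_num at ht
  rw [h2, LThreeB.card_centralizer_congr e, card_inv_th (by rw [MulEquiv.orderOf_eq, hτ])]
  norm_num

/-- **Normal form.** -/
theorem exists_nf {x t : Mon} (hx : orderOf x = 3) (ht : LThreeB.Row.TA t) (hxt : x * t = t * x)
    (h7 : ¬ 7 ∣ Nat.card ↥(XT x t)) : ∃ (y s : centralizer ({KDone.K.z} : Set Mon)) (g : Mon), orderOf y = 3 ∧
      fr (KChart.pi LThreeB.Row.cent y) = 1 ∧ (s : Mon) * y = y * s ∧ g * x * g⁻¹ = y ∧ g * t * g⁻¹ = s := by
  have hfin : Finite Mon := MThirteen.Row.finite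
  have hsim : IsSimpleGroup Mon := MThirteen.Row.simple
  have h := chart
  have I := CoOneFin.coOne
  have hto := MThirteen.Row.ta_order ht
  have htt : t * t = 1 := by rw [← pow_two, ← hto, pow_orderOf_eq_one]
  have ht1 : t ≠ 1 := by
    rintro rfl
    rw [orderOf_one] at hto
    omega
  have htz : ¬ IsConj KDone.K.z t := by
    intro h1
    obtain ⟨c, hc⟩ := isConj_iff.1 h1
    exact MThirteen.Row.ta_ne ht c⁻¹ (by rw [← hc]; group)
  obtain ⟨g, hg, hgt⟩ := LThreeM.FiRow.exists_z_in (x := x) (v := t) (by rw [← hx, pow_orderOf_eq_one]) ht hxt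
  have hz : ∀ {w : Mon}, (g * KDone.K.z * g⁻¹) * w = w * (g * KDone.K.z * g⁻¹) →
      (g⁻¹ * w * g⁻¹⁻¹) * KDone.K.z = KDone.K.z * (g⁻¹ * w * g⁻¹⁻¹) := by
    intro w hw
    calc (g⁻¹ * w * g⁻¹⁻¹) * KDone.K.z = g⁻¹ * (w * (g * KDone.K.z * g⁻¹)) * g := by group
      _ = g⁻¹ * ((g * KDone.K.z * g⁻¹) * w) * g := by rw [hw]
      _ = KDone.K.z * (g⁻¹ * w * g⁻¹⁻¹) := by group
  obtain ⟨y, hyx⟩ : ∃ y : centralizer ({KDone.K.z} : Set Mon), (y : Mon) = g⁻¹ * x * g⁻¹⁻¹ :=
    ⟨⟨g⁻¹ * x * g⁻¹⁻¹, mem_centralizer_singleton_iff.2 (hz hg)⟩, rfl⟩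
  obtain ⟨s, hst⟩ : ∃ s : centralizer ({KDone.K.z} : Set Mon), (s : Mon) = g⁻¹ * t * g⁻¹⁻¹ :=
    ⟨⟨g⁻¹ * t * g⁻¹⁻¹, mem_centralizer_singleton_iff.2 (hz hgt)⟩, rfl⟩
  have hy : orderOf y = 3 := by
    rw [← Subgroup.orderOf_coe, hyx, ← hx]
    exact MulEquiv.orderOf_eq (MulAut.conj g⁻¹) x
  have hy' : orderOf (y : Mon) = 3 := by rw [Subgroup.orderOf_coe, hy]
  have hsy : (s : Mon) * y = y * s := by
    rw [hst, hyx]
    exact LThreeB.conj_comm' hxt.symm
  have hos : orderOf (s : Mon) = 2 := by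
    rw [hst, ← hto]
    exact MulEquiv.orderOf_eq (MulAut.conj g⁻¹) t
  have hXT : Nat.card ↥(XT (y : Mon) s) = Nat.card ↥(XT x t) := by
    rw [hst, hyx]
    exact card_XT_conj g⁻¹ x t
  rcases I.ranks (KChart.pi LThreeB.Row.cent y) (orderOf_pi h hy) with h2 | h2 | h2 | h2
  · exact ⟨y, s, g⁻¹, hy, h2, hsy, hyx.symm, hst.symm⟩
  · obtain ⟨x₀, u, g₀, hx₀, hfr₀, huz, hux, hne, hg₀⟩ := MThirteen.Row.hasPair
    obtain ⟨k, hk⟩ := conj_six h MThirteen.Row.trNe I.ranks I.six
      (fun x hx h2 => ⟨(good_of_inputs h I hx h2 : Good.{0} _).simple, (good_of_inputs h I hx h2 : Good.{0} _).nc⟩)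
      hx₀ hfr₀ huz hux hne hg₀ hy h2
    obtain ⟨N, hN⟩ := rad_zero hx₀ hfr₀
    have h5 : (k * (s : Mon) * k⁻¹) * x₀ = x₀ * (k * (s : Mon) * k⁻¹) := by
      rw [← hk]
      exact LThreeB.conj_comm' hsy
    have h6 : (k * (s : Mon) * k⁻¹) * (k * (s : Mon) * k⁻¹) = 1 := by
      have h7 : (s : Mon) * s = 1 := by rw [← pow_two, ← hos, pow_orderOf_eq_one]
      calc k * (s : Mon) * k⁻¹ * (k * (s : Mon) * k⁻¹) = k * ((s : Mon) * s) * k⁻¹ := by group
        _ = 1 := by rw [h7]; group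
    obtain ⟨d, hd⟩ := exists_conj_mem (D := ↥(centralizer ({(x₀ : Mon)} : Set Mon))) (centralizer ({zD x₀} : Set _))
      (index_odd hN) (t := ⟨k * (s : Mon) * k⁻¹, mem_centralizer_singleton_iff.2 h5⟩) (Subtype.ext h6)
    have hd' : ((d : Mon) * (k * (s : Mon) * k⁻¹) * (d : Mon)⁻¹) * KDone.K.z =
        KDone.K.z * ((d : Mon) * (k * (s : Mon) * k⁻¹) * (d : Mon)⁻¹) :=
      congrArg Subtype.val (mem_centralizer_singleton_iff.1 hd)
    have hdx := mem_centralizer_singleton_iff.1 d.2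
    have hdx' : (d : Mon) * x₀ * (d : Mon)⁻¹ = x₀ := by rw [hdx, mul_inv_cancel_right]
    refine ⟨x₀, ⟨_, mem_centralizer_singleton_iff.2 hd'⟩, (d : Mon) * k * g⁻¹, hx₀, hfr₀, ?_, ?_, ?_⟩
    · have h8 := LThreeB.conj_comm' (g := (d : Mon)) h5
      rw [hdx'] at h8
      exact h8
    · calc (d : Mon) * k * g⁻¹ * x * ((d : Mon) * k * g⁻¹)⁻¹ = (d : Mon) * (k * (g⁻¹ * x * g⁻¹⁻¹) * k⁻¹) * (d : Mon)⁻¹ := by
            group
        _ = x₀ := by rw [← hyx, hk, hdx']
    · show (d : Mon) * k * g⁻¹ * t * ((d : Mon) * k * g⁻¹)⁻¹ = (d : Mon) * (k * (s : Mon) * k⁻¹) * (d : Mon)⁻¹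
      rw [hst]
      group
  · exfalso
    apply h7
    rw [← hXT]
    exact seven_of_th hy' hos hsy (LThreeB.isoTh_of_inputs h I hy h2)
  · exfalso
    apply h7
    exact seven_of_fi hx htt (fi_type hy h2 (k := g) (by rw [hyx]; group) htt ht1 htz hxt.symm)

/-- **The pairs `(x, t)`.** -/
theorem mon_conj {x t x' t' : Mon} (hx : orderOf x = 3) (ht : LThreeB.Row.TA t) (hxt : x * t = t * x)
    (h7 : ¬ 7 ∣ Nat.card ↥(XT x t)) (hx' : orderOf x' = 3) (ht' : LThreeB.Row.TA t') (hxt' : x' * t' = t' * x')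
    (h7' : ¬ 7 ∣ Nat.card ↥(XT x' t')) : ∃ g : Mon, g * x * g⁻¹ = x' ∧ g * t * g⁻¹ = t' := by
  obtain ⟨y, s, g, hy, hfr, hsy, hg1, hg2⟩ := exists_nf hx ht hxt h7
  obtain ⟨y', s', g', hy', hfr', hsy', hg1', hg2'⟩ := exists_nf hx' ht' hxt' h7'
  obtain ⟨w, hw⟩ := LThreeCo1.Ranks.zero _ _ (orderOf_pi chart hy') (orderOf_pi chart hy) hfr' hfr
  obtain ⟨c, hc⟩ := exists_conj_of_conj chart (by rw [← hy', pow_orderOf_eq_one]) (by rw [← hy, pow_orderOf_eq_one]) hw
  have hc1 : (c : Mon) * y' * (c : Mon)⁻¹ = y := congrArg Subtype.val hc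
  have hTA : ∀ (t g : Mon), LThreeB.Row.TA t → LThreeB.Row.TA (g * t * g⁻¹) := fun t g h =>
    IsConj.trans h (isConj_iff.2 ⟨g, rfl⟩)
  have e1 : Nat.card ↥(XT (y : Mon) s) = Nat.card ↥(XT x t) := by
    rw [← hg1, ← hg2]
    exact card_XT_conj g x t
  have e2 : Nat.card ↥(XT (y : Mon) ((c * s' * c⁻¹ : centralizer ({KDone.K.z} : Set Mon)) : Mon)) =
      Nat.card ↥(XT x' t') := by
    have h1 : ((c * s' * c⁻¹ : centralizer ({KDone.K.z} : Set Mon)) : Mon) = (c : Mon) * s' * (c : Mon)⁻¹ := rfl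
    rw [h1, ← hc1, card_XT_conj, ← hg1', ← hg2']
    exact card_XT_conj g' x' t'
  obtain ⟨k, hk1, hk2⟩ := zero_conj hy hfr (s := s) (s' := c * s' * c⁻¹) (by rw [← hg2]; exact hTA _ _ ht)
    (by
      show LThreeB.Row.TA ((c : Mon) * s' * (c : Mon)⁻¹)
      rw [← hg2']
      exact hTA _ _ (hTA _ _ ht')) hsy
    (by
      show ((c : Mon) * s' * (c : Mon)⁻¹) * y = y * ((c : Mon) * s' * (c : Mon)⁻¹)
      rw [← hc1]
      exact LThreeB.conj_comm' hsy') (by rw [e1]; exact h7) (by rw [e2]; exact h7')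
  have hk3 : k * (s : Mon) * k⁻¹ = (c : Mon) * s' * (c : Mon)⁻¹ := hk2
  refine ⟨g'⁻¹ * (c : Mon)⁻¹ * k * g, ?_, ?_⟩
  · calc g'⁻¹ * (c : Mon)⁻¹ * k * g * x * (g'⁻¹ * (c : Mon)⁻¹ * k * g)⁻¹ =
        g'⁻¹ * ((c : Mon)⁻¹ * (k * (g * x * g⁻¹) * k⁻¹) * c) * g' := by group
      _ = g'⁻¹ * ((c : Mon)⁻¹ * ((c : Mon) * y' * (c : Mon)⁻¹) * c) * g' := by rw [hg1, hk1, hc1]
      _ = g'⁻¹ * (y' : Mon) * g' := by group
      _ = x' := by rw [← hg1']; group
  · calc g'⁻¹ * (c : Mon)⁻¹ * k * g * t * (g'⁻¹ * (c : Mon)⁻¹ * k * g)⁻¹ =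
        g'⁻¹ * ((c : Mon)⁻¹ * (k * (g * t * g⁻¹) * k⁻¹) * c) * g' := by group
      _ = g'⁻¹ * ((c : Mon)⁻¹ * ((c : Mon) * s' * (c : Mon)⁻¹) * c) * g' := by rw [hg2, hk3]
      _ = g'⁻¹ * (s' : Mon) * g' := by group
      _ = t' := by rw [← hg2']; group

/-! ### The Baby Monster -/

theorem isConj_quo {E : Type*} [Group E] {Z : Subgroup E} [Z.Normal] {L : Type*} [Group L] (e : E ⧸ Z ≃* L)
    {a b g : E} (h : g * a * g⁻¹ = b) : IsConj (e (QuotientGroup.mk a)) (e (QuotientGroup.mk b)) := by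
  refine isConj_iff.2 ⟨e (QuotientGroup.mk g), ?_⟩
  rw [← map_inv, ← map_mul, ← map_mul, ← QuotientGroup.mk_inv, ← QuotientGroup.mk_mul, ← QuotientGroup.mk_mul, h]

section

variable {L : Type u} [Group L] [Finite L]

theorem cover_seven {t : Mon} (h2 : Nat.card ↥(center ↥(centralizer ({t} : Set Mon))) = 2)
    (e : ↥(centralizer ({t} : Set Mon)) ⧸ center ↥(centralizer ({t} : Set Mon)) ≃* L)
    {c : ↥(centralizer ({t} : Set Mon))} (hc : orderOf c = 3)
    (h8 : ¬ 7 ∣ Nat.card (centralizer ({e (QuotientGroup.mk c)} : Set L))) : ¬ 7 ∣ Nat.card ↥(XT (c : Mon) t) := by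
  have hfin : Finite Mon := MThirteen.Row.finite
  intro h9
  have h3 := card_cent h2 e Nat.prime_three (by norm_num) hc
  rw [← Nat.card_congr (centXT c).toEquiv] at h3
  rw [h3] at h9
  exact h8 (Nat.Coprime.dvd_of_dvd_mul_right (by norm_num) h9)

theorem cover_conj {t : Mon} (ht : LThreeB.Row.TA t) (h2 : Nat.card ↥(center ↥(centralizer ({t} : Set Mon))) = 2)
    (e : ↥(centralizer ({t} : Set Mon)) ⧸ center ↥(centralizer ({t} : Set Mon)) ≃* L)
    {a b : ↥(centralizer ({t} : Set Mon))} (ha : orderOf a = 3) (hb : orderOf b = 3)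
    (h7 : ¬ 7 ∣ Nat.card (centralizer ({e (QuotientGroup.mk a)} : Set L)))
    (h7' : ¬ 7 ∣ Nat.card (centralizer ({e (QuotientGroup.mk b)} : Set L))) :
    IsConj (e (QuotientGroup.mk a)) (e (QuotientGroup.mk b)) := by
  obtain ⟨g, hg1, hg2⟩ := mon_conj (x := (a : Mon)) (t := t) (x' := (b : Mon)) (t' := t) (by rw [Subgroup.orderOf_coe, ha])
    ht (mem_centralizer_singleton_iff.1 a.2) (cover_seven h2 e ha h7) (by rw [Subgroup.orderOf_coe, hb]) ht
    (mem_centralizer_singleton_iff.1 b.2) (cover_seven h2 e hb h7')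
  have hgt : g * t = t * g := by
    rw [mul_inv_eq_iff_eq_mul] at hg2
    exact hg2
  exact isConj_quo e (g := ⟨g, mem_centralizer_singleton_iff.2 hgt⟩) (Subtype.ext hg1)

end

theorem conj_fin {L : Type u} [Group L] [Finite L] (h : Spor.IsoB L) {s s' : L} (hs : orderOf s = 3)
    (hs' : orderOf s' = 3) (h7 : ¬ 7 ∣ Nat.card (centralizer ({s} : Set L)))
    (h7' : ¬ 7 ∣ Nat.card (centralizer ({s'} : Set L))) : IsConj s s' := by
  have hfin : Finite Mon := MThirteen.Row.finite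
  obtain ⟨t, ht, h2, ⟨e⟩⟩ := exists_cover h
  obtain ⟨a, ha, ha'⟩ := H979.CovLift.exists_lift h2 Nat.prime_three (by norm_num) (x := e.symm s) (by rw [MulEquiv.orderOf_eq, hs])
  obtain ⟨b, hb, hb'⟩ := H979.CovLift.exists_lift h2 Nat.prime_three (by norm_num) (x := e.symm s') (by rw [MulEquiv.orderOf_eq, hs'])
  have hse : e (QuotientGroup.mk a) = s := by rw [ha', e.apply_symm_apply]
  have hse' : e (QuotientGroup.mk b) = s' := by rw [hb', e.apply_symm_apply]
  have h3 := cover_conj ht h2 e ha hb (by rw [hse]; exact h7) (by rw [hse']; exact h7')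
  rw [hse, hse'] at h3
  exact h3

/-- **Elements of order three with centralizer of order prime to seven are conjugate.** -/
theorem conj_three {L : Type u} [Group L] (h : Spor.IsoB L) {s s' : L} (hs : orderOf s = 3) (hs' : orderOf s' = 3)
    (h7 : ¬ 7 ∣ Nat.card (centralizer ({s} : Set L))) (h7' : ¬ 7 ∣ Nat.card (centralizer ({s'} : Set L))) :
    IsConj s s' := by
  have hL : Finite L := Nat.finite_of_card_ne_zero (by rw [NotCT.Orders.b h]; norm_num)
  exact conj_fin h hs hs' h7 h7'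

end Cfsg.Agent.H573.U33.Conj
end
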